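import Cfsg.Agent.H704.S8.Defs
import Cfsg.Agent.H995.CopM
import Cfsg.Agent.H626.LD.TwentyNine
import Cfsg.Agent.H58.Cop.MSc
import Cfsg.Agent.H870.Der.Cop

/-!
# S4908, the Monster: the Frobenius subgroup `59 : 29` (helper629)

`frob_M` : `FrobRow 1 D X` for the Monster.
-/

set_option autoImplicit false
set_option maxRecDepth 100000

namespace Cfsg.Agent.H629.S8

open Subgroup Cfsg Cfsg.Agent.OrdDiv Cfsg.Agent.H995.CopEngine
open scoped Pointwise
open Cfsg.Agent.H995.CopTwo (lM lM_valid chkM)

universe u v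

theorem card_conj_le (T : Type u) [Group T] [Finite T] : Nat.card (ConjClasses T) ≤ Nat.card T :=
  Nat.card_le_card_of_surjective (ConjClasses.mk : T → ConjClasses T) ConjClasses.mk_surjective

section general

variable {X : Type u} [Group X] {T : Subgroup X}

theorem cent_dvd (y : T) : Nat.card (centralizer ({y} : Set T)) ∣ Nat.card (centralizer ({(y : X)} : Set X)) := by
  rw [← card_map_of_injective (f := T.subtype) T.subtype_injective]
  refine card_dvd_of_le ?_
  rintro _ ⟨a, ha, rfl⟩
  have h1 := mem_centralizer_singleton_iff.1 (show a ∈ centralizer ({y} : Set T) from ha)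
  exact mem_centralizer_singleton_iff.2 (congrArg Subtype.val h1)

theorem norm_dvd (y : T) : Nat.card (normalizer (zpowers y : Set T)) ∣ Nat.card (normalizer (zpowers (y : X) : Set X)) := by
  rw [← card_map_of_injective (f := T.subtype) T.subtype_injective]
  refine card_dvd_of_le ?_
  rintro _ ⟨a, ha, rfl⟩
  have h1 := mem_normalizer_iff.1 (show a ∈ normalizer (zpowers y : Set T) from ha)
  have e : (zpowers (y : X) : Subgroup X) = (zpowers y).map T.subtype := by
    rw [MonoidHom.map_zpowers]
    rfl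
  rw [e, mem_normalizer_iff]
  intro x
  constructor
  · rintro ⟨b, hb, rfl⟩
    exact ⟨a * b * a⁻¹, (h1 b).1 hb, rfl⟩
  · rintro ⟨b, hb, hbx⟩
    refine ⟨a⁻¹ * b * a, (h1 _).2 ?_, ?_⟩
    · have e2 : a * (a⁻¹ * b * a) * a⁻¹ = b := by group
      rw [e2]
      exact hb
    · have e3 : (b : X) = (a : X) * x * (a : X)⁻¹ := hbx
      show (a : X)⁻¹ * (b : X) * (a : X) = x
      rw [e3]
      group

/-- the order of a normal `r'`-subgroup, at the primes `p` not dividing the centralizer of an element of order `r` -/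
theorem pow_modEq {G : Type u} [Group G] [Finite G] {r : ℕ} (hr : r.Prime) (N : Subgroup G) [N.Normal]
    (hrN : ¬ r ∣ Nat.card N) {w : G} (hw : orderOf w = r) {p : ℕ} (hp : p.Prime)
    (hC : ¬ p ∣ Nat.card (centralizer ({w} : Set G))) : p ^ (Nat.card N).factorization p ≡ 1 [MOD r] := by
  have : Fact p.Prime := ⟨hp⟩
  have hwr : w ^ r = 1 := by rw [← hw, pow_orderOf_eq_one]
  obtain ⟨P, hP⟩ := exists_fixed hr N hrN hwr (p := p)
  set P' : Subgroup G := (P : Subgroup N).map N.subtype with hP'
  have hPN : P' ≤ N := Subgroup.map_subtype_le _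
  have hcard : Nat.card P' = Nat.card (P : Subgroup N) := Subgroup.card_map_of_injective N.subtype_injective
  have hwn : w ∈ normalizer (P' : Set G) := by
    have h1 : ∀ (g : G), (MulAut.conjNormal g : MulAut N) • P = P → ∀ x ∈ P', g * x * g⁻¹ ∈ P' := by
      intro g hg x hx
      obtain ⟨y, hy, rfl⟩ := hx
      have h2 : (MulAut.conjNormal g : MulAut N) • y ∈ (MulAut.conjNormal g : MulAut N) • (P : Subgroup N) :=
        Subgroup.smul_mem_pointwise_smul _ _ _ hy
      have h3 : ((MulAut.conjNormal g : MulAut N) • (P : Subgroup N)) = (P : Subgroup N) := by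
        have h4 := congrArg (fun Q : Sylow p N => (Q : Subgroup N)) hg
        exact h4
      rw [h3] at h2
      refine ⟨_, h2, ?_⟩
      show ((MulAut.conjNormal g y : N) : G) = g * y * g⁻¹
      exact MulAut.conjNormal_apply g y
    have hP2 : (MulAut.conjNormal w⁻¹ : MulAut N) • P = P := by
      conv_lhs => rw [← hP]
      rw [map_inv, inv_smul_smul]
    rw [Subgroup.mem_normalizer_iff]
    intro x
    constructor
    · exact h1 w hP x
    · intro hx
      have h2 := h1 w⁻¹ hP2 _ hx
      have h3 : w⁻¹ * (w * x * w⁻¹) * w⁻¹⁻¹ = x := by group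
      rwa [h3] at h2
  have h5 := Cfsg.Agent.H870.Der.Cop.card_inf_modEq hr hw hwn
  have h6 : Nat.card ↥(P' ⊓ centralizer ({w} : Set G)) = 1 := by
    have hpg : IsPGroup p P' := by
      have h7 := P.2.map N.subtype
      exact h7
    have h8 : IsPGroup p ↥(P' ⊓ centralizer ({w} : Set G)) := hpg.to_le inf_le_left
    obtain ⟨k, hk⟩ := IsPGroup.iff_card.1 h8
    rcases Nat.eq_zero_or_pos k with rfl | hk0
    · rw [hk, pow_zero]
    · exfalso
      apply hC
      have h9 : Nat.card ↥(P' ⊓ centralizer ({w} : Set G)) ∣ Nat.card (centralizer ({w} : Set G)) :=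
        card_dvd_of_le inf_le_right
      rw [hk] at h9
      exact (dvd_pow_self p hk0.ne').trans h9
  rw [h6, hcard, Sylow.card_eq_multiplicity] at h5
  exact h5

/-- all the primes of `l`, except those of `ex` -/
def condAll (l : List (ℕ × ℕ)) (r : ℕ) (ex : List ℕ) : Bool := l.all fun x => ex.contains x.1 || condB r x.1 x.2

theorem cond_all {l : List (ℕ × ℕ)} {N r : ℕ} {ex : List ℕ} (hv : valid l N = true) (hc : condAll l r ex = true) {p : ℕ}
    (hp : p.Prime) (hex : p ∉ ex) : ∀ i, 1 ≤ i → p ^ i ∣ N → ¬ r ∣ p ^ i - 1 := by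
  intro i hi hd
  obtain ⟨k, hk, -⟩ := exists_pair hv hp hi hd
  have h1 := (List.all_eq_true.1 hc) (p, k) hk
  rw [Bool.or_eq_true] at h1
  rcases h1 with h1 | h1
  · exact absurd (by simpa using h1) hex
  · exact cond_of_chk hp (valid_exact hv _ hk) h1 i hi hd

theorem mem_cond {G : Type u} [Group G] [Finite G] {l : List (ℕ × ℕ)} {M r : ℕ} {ex : List ℕ} (hv : valid l M = true)
    (hr : r.Prime) (hc : condAll l r ex = true) (hG : Nat.card G ∣ M) (N : Subgroup G) [N.Normal]
    (hrN : ¬ r ∣ Nat.card N) {w : G} (hw : orderOf w = r) {p k : ℕ} (hp : p.Prime) (hex : p ∉ ex) (hk : p ^ k ∣ Nat.card N) :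
    p ^ k ∣ Nat.card (centralizer ({w} : Set G)) := by
  have hwr : w ^ r = 1 := by rw [← hw, pow_orderOf_eq_one]
  rcases Nat.eq_zero_or_pos k with rfl | hk0
  · rw [pow_zero]; exact one_dvd _
  have hpr : p ≠ r := by
    rintro rfl
    exact hrN ((dvd_pow_self p hk0.ne').trans hk)
  have h1 := pow_dvd_cent hr N hrN hwr hp hpr hk fun i hi hd =>
    cond_all hv hc hp hex i hi ((hd.trans (Subgroup.card_subgroup_dvd_card N)).trans hG)
  exact h1.trans (card_dvd_of_le inf_le_right)

end general

/-- the order of the Monster -/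
abbrev NM : ℕ := 808017424794512875886459904961710757005754368000000000

theorem cond59 : condAll lM 59 [59] = true := by decide +kernel

/-- **`59` divides `|T|`** -/
theorem dvd_fiftynine (hK : AllKnown.{u}) {X : Type u} [Group X] [Finite X] {T : Subgroup X} (hT : T ≠ ⊤)
    (hN : Nat.card X = NM) (hc : ∀ v : X, orderOf v = 59 → Nat.card (centralizer ({v} : Set X)) = 59)
    (h : 59 ∣ Nat.card T) : Nat.card T ∣ 59 * (59 - 1) * (59 + 1) := by
  have h59 : Nat.Prime 59 := by norm_num
  have : Fact (Nat.Prime 59) := ⟨h59⟩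
  have hTN : Nat.card T ∣ NM := hN ▸ Subgroup.card_subgroup_dvd_card T
  obtain ⟨K, hKn, h59K, hidx⟩ := exists_normal hK hT hN lM_valid h59 h (by norm_num) chkM
    (dvd_mod_one (by norm_num) 1740 30 (by norm_num) (by norm_num) (by norm_num) (by decide))
  obtain ⟨y, hy⟩ := exists_prime_orderOf_dvd_card' 59 h
  have h1 : Nat.card K = 1 := by
    by_contra hne
    obtain ⟨p, hp, hd⟩ := Nat.exists_prime_and_dvd hne
    have hp59 : p ≠ 59 := fun e => h59K (e ▸ hd)
    have h2 := mem_cond lM_valid h59 cond59 hTN K h59K hy hp (k := 1) (by simpa using hp59) (by rwa [pow_one])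
    rw [pow_one] at h2
    have h3 := h2.trans (cent_dvd y)
    rw [hc y (by rw [Subgroup.orderOf_coe, hy])] at h3
    exact hp59 ((Nat.prime_dvd_prime_iff_eq hp h59).1 h3)
  rw [← K.card_mul_index, h1, one_mul]
  exact hidx

/-- the points `4, ..., 25` -/
def ee {n : ℕ} (hn : 26 ≤ n) : Fin 22 ≃ {x : Fin n // 4 ≤ x.val ∧ x.val < 26} where
  toFun i := ⟨⟨i.val + 4, by omega⟩, by show 4 ≤ i.val + 4 ∧ i.val + 4 < 26; omega⟩
  invFun x := ⟨x.1.val - 4, by have := x.2; omega⟩
  left_inv i := by ext; simp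
  right_inv x := by
    ext
    have := x.2
    show x.1.val - 4 + 4 = x.1.val
    omega

/-- an involution of `A_n`, `n ≥ 26`, whose centralizer has order divisible by 121 -/
theorem exists_inv {n : ℕ} (hn : 26 ≤ n) : ∃ t : alternatingGroup (Fin n), orderOf t = 2 ∧
    11 ^ 2 ∣ Nat.card (centralizer ({t} : Set (alternatingGroup (Fin n)))) := by
  classical
  let a : Fin n := ⟨0, by omega⟩
  let b : Fin n := ⟨1, by omega⟩
  let c : Fin n := ⟨2, by omega⟩
  let d : Fin n := ⟨3, by omega⟩
  have hab : a ≠ b := fun h => by have := congrArg Fin.val h; simp only [a, b] at this; omega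
  have hcd : c ≠ d := fun h => by have := congrArg Fin.val h; simp only [c, d] at this; omega
  have hac : a ≠ c := fun h => by have := congrArg Fin.val h; simp only [a, c] at this; omega
  have had : a ≠ d := fun h => by have := congrArg Fin.val h; simp only [a, d] at this; omega
  have hbc : b ≠ c := fun h => by have := congrArg Fin.val h; simp only [b, c] at this; omega
  have hbd : b ≠ d := fun h => by have := congrArg Fin.val h; simp only [b, d] at this; omega
  let t0 : Equiv.Perm (Fin n) := Equiv.swap a b * Equiv.swap c d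
  have hfix : ∀ x : Fin n, 4 ≤ x.val → t0 x = x := by
    intro x hx
    have h1 : x ≠ a := fun h => by have := congrArg Fin.val h; simp only [a] at this; omega
    have h2 : x ≠ b := fun h => by have := congrArg Fin.val h; simp only [b] at this; omega
    have h3 : x ≠ c := fun h => by have := congrArg Fin.val h; simp only [c] at this; omega
    have h4 : x ≠ d := fun h => by have := congrArg Fin.val h; simp only [d] at this; omega
    show Equiv.swap a b (Equiv.swap c d x) = x
    rw [Equiv.swap_apply_of_ne_of_ne h3 h4, Equiv.swap_apply_of_ne_of_ne h1 h2]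
  have hta : t0 a = b := by
    show Equiv.swap a b (Equiv.swap c d a) = b
    rw [Equiv.swap_apply_of_ne_of_ne hac had, Equiv.swap_apply_left]
  have ht2 : t0 * t0 = 1 := by
    have hc : Equiv.swap a b * Equiv.swap c d = Equiv.swap c d * Equiv.swap a b := by
      have hd : (Equiv.swap a b).Disjoint (Equiv.swap c d) := by
        intro x
        by_cases h1 : x = a
        · right; rw [h1]; exact Equiv.swap_apply_of_ne_of_ne hac had
        by_cases h2 : x = b
        · right; rw [h2]; exact Equiv.swap_apply_of_ne_of_ne hbc hbd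
        · left; exact Equiv.swap_apply_of_ne_of_ne h1 h2
      exact hd.commute
    show Equiv.swap a b * Equiv.swap c d * (Equiv.swap a b * Equiv.swap c d) = 1
    calc Equiv.swap a b * Equiv.swap c d * (Equiv.swap a b * Equiv.swap c d)
        = Equiv.swap a b * (Equiv.swap c d * Equiv.swap a b) * Equiv.swap c d := by group
      _ = Equiv.swap a b * (Equiv.swap a b * Equiv.swap c d) * Equiv.swap c d := by rw [hc]
      _ = (Equiv.swap a b * Equiv.swap a b) * (Equiv.swap c d * Equiv.swap c d) := by group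
      _ = 1 := by rw [Equiv.swap_mul_self, Equiv.swap_mul_self, mul_one]
  have htm : t0 ∈ alternatingGroup (Fin n) := by
    rw [Equiv.Perm.mem_alternatingGroup, Equiv.Perm.sign_mul, Equiv.Perm.sign_swap hab, Equiv.Perm.sign_swap hcd]
    rfl
  have ht1 : t0 ≠ 1 := by
    intro h
    rw [h] at hta
    exact hab hta
  refine ⟨⟨t0, htm⟩, ?_, ?_⟩
  · rw [Subgroup.orderOf_mk]
    exact orderOf_eq_prime (by rw [pow_two]; exact ht2) ht1
  set C : Subgroup (Equiv.Perm (Fin n)) := centralizer ({t0} : Set (Equiv.Perm (Fin n))) with hCdef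
  have h22 : 11 ^ 2 ∣ Nat.card C := by
    let f : Equiv.Perm (Fin 22) →* Equiv.Perm (Fin n) := Equiv.Perm.extendDomainHom (ee hn)
    have hf : Function.Injective f := Equiv.Perm.extendDomainHom_injective (ee hn)
    have h1 : f.range ≤ C := by
      rintro _ ⟨g, rfl⟩
      rw [hCdef, mem_centralizer_singleton_iff]
      have hd : (f g).Disjoint t0 := by
        intro x
        by_cases hx : 4 ≤ x.val
        · right; exact hfix x hx
        · left
          show (g.extendDomain (ee hn)) x = x
          exact Equiv.Perm.extendDomain_apply_not_subtype _ _ fun h => hx h.1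
      exact hd.commute
    have h2 : Nat.card f.range = Nat.card (Equiv.Perm (Fin 22)) := (Nat.card_congr (MonoidHom.ofInjective hf).toEquiv).symm
    have h3 := card_dvd_of_le h1
    rw [h2, Nat.card_perm, Nat.card_eq_fintype_card, Fintype.card_fin] at h3
    exact (show 11 ^ 2 ∣ (22).factorial by decide +kernel).trans h3
  have hne : Nontrivial (Fin n) := ⟨⟨a, b, hab⟩⟩
  have hidx : (alternatingGroup (Fin n)).index = 2 := alternatingGroup.index_eq_two
  have h3 := pow_dvd_inf (alternatingGroup (Fin n)) C (q := 11) (by norm_num) (by rw [hidx]; norm_num) h22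
  refine h3.trans ?_
  rw [← card_map_of_injective (f := (alternatingGroup (Fin n)).subtype) (alternatingGroup (Fin n)).subtype_injective]
  refine card_dvd_of_le ?_
  rintro x ⟨hx1, hx2⟩
  refine ⟨⟨x, hx2⟩, ?_, rfl⟩
  have h4 := mem_centralizer_singleton_iff.1 (show x ∈ centralizer ({t0} : Set (Equiv.Perm (Fin n))) from hx1)
  exact mem_centralizer_singleton_iff.2 (Subtype.ext h4)

/-- the order of the Monster divided by 59 -/
abbrev N29 : ℕ := 13695210589737506370956947541723911135690752000000000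

def l29 : List (ℕ × ℕ) := [(2, 46), (3, 20), (5, 9), (7, 6), (11, 2), (13, 3), (17, 1), (19, 1), (23, 1), (29, 1), (31, 1),
  (41, 1), (47, 1), (71, 1)]

theorem l29_valid : valid l29 N29 = true := by decide +kernel

theorem cond29 : condAll l29 29 [2, 29] = true := by decide +kernel

/-- `A_n` with `n ≥ 26` and `2 ^ 24 ∣ |A_n|` -/
def isBig : Grp → Bool
  | .alt n => Nat.ble 26 n && Nat.beq (ordN (.alt n) % 2 ^ 24) 0
  | _ => false

theorem chk29 : ((cands l29 N29).all fun g => !Nat.beq (ordN g % 29) 0 || isBig g || Nat.ble (ordN g) 145926144000 ||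
    Nat.beq (ordN g) 1255205709190661721292800) = true := by decide +kernel

theorem chkPow : ∀ a < 47, 2 ^ a % 29 = 1 → a = 0 ∨ a = 28 := by decide +kernel

/-- the order of a normal `29'`-subgroup -/
theorem card_core {T : Type u} [Group T] [Finite T] (hT : Nat.card T ∣ N29) (U : Subgroup T) [U.Normal]
    (hrU : ¬ 29 ∣ Nat.card U) {y : T} (hy : orderOf y = 29) (hc : Nat.card (centralizer ({y} : Set T)) ∣ 87) :
    ∃ a, (a = 0 ∨ a = 28) ∧ 2 ^ a ∣ Nat.card U ∧ Nat.card U ∣ 2 ^ a * 3 := by
  have h29 : Nat.Prime 29 := by norm_num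
  have h2 := pow_modEq h29 U hrU hy Nat.prime_two (fun h => absurd (h.trans hc) (by norm_num))
  set a := (Nat.card U).factorization 2 with ha
  have hdvd : 2 ^ a ∣ Nat.card U := Nat.ordProj_dvd _ _
  have hlt : a < 47 := by
    by_contra hge
    have h3 : 2 ^ 47 ∣ N29 := (pow_dvd_pow 2 (by omega)).trans ((hdvd.trans (Subgroup.card_subgroup_dvd_card U)).trans hT)
    norm_num at h3
  refine ⟨a, chkPow a hlt h2, hdvd, ?_⟩
  rw [Nat.dvd_iff_prime_pow_dvd_dvd]
  intro p k hp hk
  by_cases hp2 : p = 2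
  · subst hp2
    have h4 : k ≤ a := (hp.pow_dvd_iff_le_factorization Nat.card_pos.ne').1 hk
    exact (pow_dvd_pow 2 h4).mul_right 3
  · rcases Nat.eq_zero_or_pos k with rfl | hk0
    · rw [pow_zero]; exact one_dvd _
    have hp29 : p ≠ 29 := by
      rintro rfl
      exact hrU ((dvd_pow_self 29 hk0.ne').trans hk)
    have h4 := (mem_cond l29_valid h29 cond29 hT U hrU hy hp (by simp [hp2, hp29]) hk).trans hc
    have h5 : Nat.Coprime (p ^ k) 29 := Nat.Coprime.pow_left k ((Nat.coprime_primes hp h29).2 hp29)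
    exact (h5.dvd_of_dvd_mul_right (show p ^ k ∣ 3 * 29 from h4)).mul_left _

/-- **`29` divides `|T|`, `59` does not** -/
theorem le_twentynine (hK : AllKnown.{u}) {X : Type u} [Group X] [Finite X] {T : Subgroup X}
    (hN : Nat.card X = NM) (hc : ∀ v : X, orderOf v = 29 → Nat.card (centralizer ({v} : Set X)) = 87)
    (hn : ∀ v : X, orderOf v = 29 → Nat.card (normalizer (zpowers v : Set X)) = 28 * 87)
    (hi : ∀ t : X, orderOf t = 2 → ¬ 11 ^ 2 ∣ Nat.card (centralizer ({t} : Set X)))
    (h59 : ¬ 59 ∣ Nat.card T) (h : 29 ∣ Nat.card T) : Nat.card T ≤ 316311838716046753765785600 := by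
  have h29 : Nat.Prime 29 := by norm_num
  have : Fact (Nat.Prime 29) := ⟨h29⟩
  have hTN : Nat.card T ∣ 59 * N29 := by
    have h1 : Nat.card T ∣ NM := hN ▸ Subgroup.card_subgroup_dvd_card T
    exact h1
  have hTN' : Nat.card T ∣ N29 :=
    ((Nat.Prime.coprime_iff_not_dvd (by norm_num)).2 h59).symm.dvd_of_dvd_mul_left hTN
  have h2T : ¬ 29 ^ 2 ∣ Nat.card T := fun h => absurd (h.trans hTN') (by norm_num)
  obtain ⟨y, hy⟩ := exists_prime_orderOf_dvd_card' 29 h
  have hyX : orderOf (y : X) = 29 := by rw [Subgroup.orderOf_coe, hy]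
  obtain ⟨U, hUn, hrU, hmax⟩ := exists_core T h29
  have hcT : Nat.card (centralizer ({y} : Set T)) ∣ 87 := hc y hyX ▸ cent_dvd y
  obtain ⟨a, ha, ha1, ha2⟩ := card_core hTN' U hrU hy hcT
  have hcard : Nat.card T = Nat.card (T ⧸ U) * Nat.card U := Subgroup.card_eq_card_quotient_mul_card_subgroup U
  have hQ : 29 ∣ Nat.card (T ⧸ U) := by
    rw [hcard] at h
    exact (h29.dvd_mul.1 h).resolve_right hrU
  have h2Q : ¬ 29 ^ 2 ∣ Nat.card (T ⧸ U) := fun h3 => h2T (h3.trans ⟨_, hcard⟩)
  have hO : ∀ A : Subgroup (T ⧸ U), A.Normal → ¬ 29 ∣ Nat.card A → A = ⊥ := by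
    intro A hA hrA
    have h1 : Nat.card (A.comap (QuotientGroup.mk' U)) = Nat.card A * Nat.card U := by
      have h3 := Subgroup.relIndex_ker (f := QuotientGroup.mk' U) (K := A.comap (QuotientGroup.mk' U))
      rw [QuotientGroup.ker_mk', Subgroup.map_comap_eq_self_of_surjective (QuotientGroup.mk'_surjective U)] at h3
      have h4 : U ≤ A.comap (QuotientGroup.mk' U) := by
        intro x hx
        rw [mem_comap, QuotientGroup.mk'_apply, (QuotientGroup.eq_one_iff x).2 hx]
        exact A.one_mem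
      have h5 := Subgroup.relIndex_mul_relIndex ⊥ U (A.comap (QuotientGroup.mk' U)) bot_le h4
      rw [Subgroup.relIndex_bot_left, Subgroup.relIndex_bot_left, h3] at h5
      rw [← h5, mul_comm]
    have h2 := hmax (A.comap (QuotientGroup.mk' U)) (hA.comap _) (by
      rw [h1]
      intro h3
      exact (h29.dvd_mul.1 h3).elim hrA hrU)
    rw [eq_bot_iff]
    intro x hx
    obtain ⟨x, rfl⟩ := QuotientGroup.mk'_surjective U x
    rw [mem_bot, QuotientGroup.mk'_apply, QuotientGroup.eq_one_iff]
    exact h2 hx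
  have hy' : orderOf (QuotientGroup.mk' U y) = 29 := by
    refine orderOf_eq_prime (by rw [← map_pow, ← hy, pow_orderOf_eq_one, map_one]) fun h1 => ?_
    rw [QuotientGroup.mk'_apply, QuotientGroup.eq_one_iff] at h1
    apply hrU
    have h3 := orderOf_dvd_natCard (⟨y, h1⟩ : U)
    rwa [Subgroup.orderOf_mk, hy] at h3
  have hpz : IsPGroup 29 (zpowers (QuotientGroup.mk' U y)) :=
    IsPGroup.of_card (n := 1) (by rw [Nat.card_zpowers, hy', pow_one])
  have hiz : ¬ 29 ∣ (zpowers (QuotientGroup.mk' U y)).index := by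
    intro h1
    apply h2Q
    rw [← (zpowers (QuotientGroup.mk' U y)).card_mul_index, Nat.card_zpowers, hy', pow_two]
    exact Nat.mul_dvd_mul_left 29 h1
  let P : Sylow 29 (T ⧸ U) := hpz.toSylow hiz
  have hPz : (P : Subgroup (T ⧸ U)) = zpowers (QuotientGroup.mk' U y) := rfl
  have hS := simple_closure h29 hQ h2Q hO P
  set S := Subgroup.normalClosure ((P : Subgroup (T ⧸ U)) : Set (T ⧸ U)) with hSdef
  have hPS : (P : Subgroup (T ⧸ U)) ≤ S := Subgroup.le_normalClosure
  have hS29 : 29 ∣ Nat.card S := by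
    have h1 := card_dvd_of_le hPS
    rwa [hPz, Nat.card_zpowers, hy'] at h1
  have hSQ : Nat.card S * S.index = Nat.card (T ⧸ U) := S.card_mul_index
  have hidx29 : ¬ 29 ∣ S.index := by
    intro h1
    apply h2Q
    rw [← hSQ, pow_two]
    exact mul_dvd_mul hS29 h1
  have hidx : S.index ∣ 84 := by
    have h1 : normalizer ((P : Subgroup (T ⧸ U)) : Set (T ⧸ U)) ⊔ S = ⊤ := Sylow.normalizer_sup_eq_top' P hPS
    have h2 : S.index = S.relIndex (normalizer ((P : Subgroup (T ⧸ U)) : Set (T ⧸ U))) := by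
      rw [← Subgroup.relIndex_sup_right (normalizer ((P : Subgroup (T ⧸ U)) : Set (T ⧸ U))) S, h1,
        Subgroup.relIndex_top_right]
    have h3 : S.index ∣ Nat.card (normalizer ((P : Subgroup (T ⧸ U)) : Set (T ⧸ U))) := by
      rw [h2]
      exact Subgroup.relIndex_dvd_card _ _
    rw [hPz] at h3
    have h4 := (h3.trans (Cfsg.Agent.H870.Der.Cop.card_norm_quot_dvd h29 hrU hy)).trans (norm_dvd y)
    rw [hn y hyX] at h4
    exact ((Nat.Prime.coprime_iff_not_dvd h29).2 hidx29).symm.dvd_of_dvd_mul_left (show S.index ∣ 29 * 84 from h4)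
  have hidx84 : S.index ≤ 84 := Nat.le_of_dvd (by norm_num) hidx
  have hcard2 : Nat.card T = Nat.card U * (Nat.card S * S.index) := by rw [hcard, hSQ, mul_comm]
  have hU : Nat.card U ≤ 2 ^ a * 3 := Nat.le_of_dvd (by positivity) ha2
  have hSN : Nat.card S ∣ N29 := by
    refine Dvd.dvd.trans ?_ hTN'
    rw [hcard2]
    exact (dvd_mul_right _ _).mul_left _
  have hUSN : ∀ m, m ∣ Nat.card S → 2 ^ a * m ∣ N29 := by
    intro m hm
    refine Dvd.dvd.trans ?_ hTN'
    rw [hcard2]
    exact mul_dvd_mul ha1 (hm.mul_right _)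
  have small : Nat.card S ≤ 145926144000 → Nat.card T ≤ 316311838716046753765785600 := by
    intro h1
    rw [hcard2]
    have h2 : Nat.card U ≤ 2 ^ 28 * 3 := by
      rcases ha with rfl | rfl
      · exact hU.trans (by norm_num)
      · exact hU
    calc Nat.card U * (Nat.card S * S.index) ≤ (2 ^ 28 * 3) * (145926144000 * 84) :=
          Nat.mul_le_mul h2 (Nat.mul_le_mul h1 hidx84)
      _ ≤ _ := by norm_num
  by_cases hpr : (Nat.card S).Prime
  · have h1 : Nat.card S = 29 := ((Nat.prime_dvd_prime_iff_eq h29 hpr).1 hS29).symm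
    exact small (by rw [h1]; norm_num)
  have hna : ¬ ∀ a b : S, a * b = b * a := by
    intro hcomm
    exact Cfsg.Agent.H995.CopTwo.not_comm_of_card hpr ⟨⟨hcomm⟩⟩
  obtain ⟨g, hg, hreal, hord⟩ := exists_good table (hK S) hna l29_valid hSN
  have hck := (List.all_eq_true.1 chk29) g hg
  rw [Bool.or_eq_true, Bool.or_eq_true, Bool.or_eq_true] at hck
  rcases hck with ((hck | hck) | hck) | hck
  · rw [← hord, Nat.mod_eq_zero_of_dvd hS29] at hck
    simp at hck
  · exfalso
    cases g <;> simp only [isBig, Bool.false_eq_true] at hck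
    rename_i n
    rw [Bool.and_eq_true] at hck
    obtain ⟨hn26, h24⟩ := hck
    have hn26 : 26 ≤ n := Nat.le_of_ble_eq_true hn26
    have h24 : 2 ^ 24 ∣ Nat.card S := by
      rw [hord]
      exact Nat.dvd_of_mod_eq_zero (Nat.eq_of_beq_eq_true h24)
    rcases ha with rfl | rfl
    · obtain ⟨e⟩ := hreal
      obtain ⟨t, ht, h121⟩ := exists_inv hn26
      have h2U : ¬ 2 ∣ Nat.card U := fun h1 => absurd (h1.trans ha2) (by norm_num)
      have ht1 : orderOf (e.symm t) = 2 := by rw [MulEquiv.orderOf_eq, ht]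
      have ht2 : orderOf ((e.symm t : S) : T ⧸ U) = 2 := by rw [Subgroup.orderOf_coe, ht1]
      obtain ⟨x, hx, hxt⟩ := Cfsg.Agent.H870.Der.Cop.exists_lift_eq Nat.prime_two h2U ht2
      have h5 := Cfsg.Agent.H870.Der.Cop.card_cent_quot_dvd Nat.prime_two h2U hx
      rw [hxt] at h5
      have h6 := cent_dvd (e.symm t)
      have h7 : Nat.card (centralizer ({e.symm t} : Set S)) = Nat.card (centralizer ({t} : Set (alternatingGroup (Fin n)))) := by
        rw [Cfsg.Agent.H626.LD.TwentyNine.card_cent_equiv e, MulEquiv.apply_symm_apply]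
      rw [h7] at h6
      exact hi x (by rw [Subgroup.orderOf_coe, hx]) (((h121.trans h6).trans h5).trans (cent_dvd x))
    · have h1 := hUSN _ h24
      norm_num at h1
  · exact small (by rw [hord]; exact Nat.le_of_ble_eq_true hck)
  · have hS1 : Nat.card S = 1255205709190661721292800 := hord.trans (Nat.eq_of_beq_eq_true hck)
    rcases ha with rfl | rfl
    · rw [hcard2, hS1]
      calc Nat.card U * (1255205709190661721292800 * S.index) ≤ (2 ^ 0 * 3) * (1255205709190661721292800 * 84) :=
            Nat.mul_le_mul hU (Nat.mul_le_mul_left _ hidx84)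
        _ ≤ _ := by norm_num
    · have h1 := hUSN _ (dvd_of_eq hS1.symm)
      norm_num at h1

/-- **the row, abstract form** -/
theorem frob_of (hK : AllKnown.{u}) {X : Type u} [Group X] [Finite X]
    (hN : Nat.card X = NM) (hc' : ∀ v : X, orderOf v = 59 → Nat.card (centralizer ({v} : Set X)) = 59)
    (hc : ∀ v : X, orderOf v = 29 → Nat.card (centralizer ({v} : Set X)) = 87)
    (hn : ∀ v : X, orderOf v = 29 → Nat.card (normalizer (zpowers v : Set X)) = 28 * 87)
    (hi : ∀ t : X, orderOf t = 2 → ¬ 11 ^ 2 ∣ Nat.card (centralizer ({t} : Set X)))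
    {v g : X} (hv : orderOf v = 59) (hg : orderOf g = 29) (hgv : g * v * g⁻¹ ∈ zpowers v) (D : Set ℕ) :
    H704.S8.FrobRow 1 D X := by
  refine ⟨zpowers v, zpowers g, by rw [Nat.card_zpowers, hv]; norm_num, ?_, ?_, ?_, ?_⟩
  · rw [zpowers_le]
    exact Cfsg.Agent.H439.Der.mem_normalizer_of hgv
  · intro x hx z hz hxz
    by_cases hx1 : x = 1
    · exact Or.inl hx1
    right
    have h1 : orderOf x = 59 := by
      have h2 : orderOf x ∣ 59 := by
        have h3 := orderOf_dvd_natCard (⟨x, hx⟩ : zpowers v)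
        rwa [Nat.card_zpowers, hv, Subgroup.orderOf_mk] at h3
      rcases (Nat.dvd_prime (by norm_num)).1 h2 with h3 | h3
      · exact absurd (orderOf_eq_one_iff.1 h3) hx1
      · exact h3
    have h2 : orderOf z ∣ 59 := by
      have h3 : z ∈ centralizer ({x} : Set X) := mem_centralizer_singleton_iff.2 hxz
      have h4 := orderOf_dvd_natCard (⟨z, h3⟩ : centralizer ({x} : Set X))
      rwa [hc' x h1, Subgroup.orderOf_mk] at h4
    have h3 : orderOf z ∣ 29 := by
      have h4 := orderOf_dvd_natCard (⟨z, hz⟩ : zpowers g)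
      rwa [Nat.card_zpowers, hg, Subgroup.orderOf_mk] at h4
    have h4 := Nat.dvd_gcd h2 h3
    exact orderOf_eq_one_iff.1 (Nat.dvd_one.1 h4)
  · intro h1
    rw [zpowers_eq_bot] at h1
    rw [h1, orderOf_one] at hg
    norm_num at hg
  · intro T hT hPQ _
    rw [one_mul, hN]
    have key : Nat.card T ≤ 316311838716046753765785600 := by
      by_cases h59 : 59 ∣ Nat.card T
      · exact (Nat.le_of_dvd (by norm_num) (dvd_fiftynine hK hT hN hc' h59)).trans (by norm_num)
      · rcases hPQ with h1 | h1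
        · exfalso
          apply h59
          have h2 := card_dvd_of_le h1
          rwa [Nat.card_zpowers, hv] at h2
        · have h2 := card_dvd_of_le h1
          rw [Nat.card_zpowers, hg] at h2
          exact le_twentynine hK hN hc hn hi h59 h2
    calc Nat.card T * Nat.card (ConjClasses T) ≤ 316311838716046753765785600 * 316311838716046753765785600 :=
          Nat.mul_le_mul key ((card_conj_le T).trans key)
      _ ≤ _ := by norm_num

open Cfsg.Agent.BpSpor.MBigModel in
/-- **FROB M**, from the classification -/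
theorem frob_m_of (hK : AllKnown.{u}) (hK0 : AllKnown.{0}) {X : Type u} [Group X] [Finite X] (h : Spor.IsoM X) (D : Set ℕ) :
    H704.S8.FrobRow 1 D X := by
  obtain ⟨e⟩ := H626.LD.TwentyNine.exists_equiv h
  have hfin : Finite MG := Finite.of_equiv X e.toEquiv
  obtain ⟨v, hv⟩ : ∃ v : MG, orderOf v = 59 := by
    have : Fact (Nat.Prime 59) := ⟨by norm_num⟩
    exact exists_prime_orderOf_dvd_card' 59 (by rw [card_M]; norm_num)
  obtain ⟨hcv, hnv⟩ := H58.Cop.M.norm_fiftynine hK0 hv
  obtain ⟨g, hg⟩ : ∃ g : normalizer ((zpowers v : Subgroup MG) : Set MG), orderOf g = 29 := by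
    have : Fact (Nat.Prime 29) := ⟨by norm_num⟩
    exact exists_prime_orderOf_dvd_card' 29 (by rw [hnv]; norm_num)
  have hgv : (g : MG) * v * (g : MG)⁻¹ ∈ zpowers v := (mem_normalizer_iff.1 g.2 v).1 (mem_zpowers v)
  refine frob_of hK (by rw [Nat.card_congr e.toEquiv, card_M]) (fun x hx => ?_)
    (fun x hx => H626.LD.TwentyNine.card_cent_iso h hx) (fun x hx => H626.LD.TwentyNine.card_norm_iso h hx) (fun t ht => ?_)
    (v := e.symm v) (g := e.symm g) (by rw [MulEquiv.orderOf_eq, hv]) (by rw [MulEquiv.orderOf_eq, Subgroup.orderOf_coe, hg]) ?_ D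
  · rw [H626.LD.TwentyNine.card_cent_equiv e]
    exact (H58.Cop.M.norm_fiftynine hK0 (by rw [MulEquiv.orderOf_eq, hx])).1
  · rw [H626.LD.TwentyNine.card_cent_equiv e]
    have h1 := Cfsg.Agent.H713.Spor.MOf.card_cent Cfsg.Agent.MonsterU.Uncond.all (e t) (by rw [MulEquiv.orderOf_eq, ht])
    simp only [List.mem_cons, List.not_mem_nil, or_false] at h1
    rcases h1 with h1 | h1
    · intro h2
      rw [show Nat.card (centralizer ({e t} : Set MG)) = _ from h1] at h2
      norm_num at h2
    · intro h2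
      rw [show Nat.card (centralizer ({e t} : Set MG)) = _ from h1] at h2
      norm_num at h2
  · obtain ⟨k, hk⟩ := mem_zpowers_iff.1 hgv
    refine mem_zpowers_iff.2 ⟨k, ?_⟩
    rw [← map_zpow, hk, map_mul, map_mul, map_inv]

end Cfsg.Agent.H629.S8
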